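import Mathlib
import Cfsg.Agent.H648.HeightForm
import Cfsg.Agent.H646.RankTrace
set_option linter.all false

/-!
# The degrees in a block of rank one

For a block `B` with `blockRank p B = 1`: `form_eq : [χ⁰, ψ] * ∑ θ(1)² = χ(1) ψ(1)` and
`exists_degrees : χ(1) = c a_χ` with the `a_χ` coprime, `∑ a_χ² = p ^ d`,
`p ^ d [χ⁰, ψ] = a_χ a_ψ`, and `p ^ ht(χ)` the `p`-part of `a_χ`.
-/

set_option autoImplicit false

namespace Cfsg.Agent.H632.Numbers

open Cfsg Module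
open Cfsg.Agent Cfsg.Agent.H646.RegInner Cfsg.Agent.H646.RankTrace Cfsg.Agent.H648.HeightForm

variable {G : Type*} [Group G] [Fintype G] {p : ℕ} {M : Ideal AlgInt}

omit [Fintype G] in
theorem pRegularPart_one [Fact p.Prime] (χ : G → ℂ) : pRegularPart p χ 1 = χ 1 := by
  apply pRegularPart_of_not_dvd
  rw [orderOf_one]
  exact (Fact.out : p.Prime).one_lt.not_ge ∘ Nat.le_of_dvd one_pos

omit [Fintype G] in
theorem smul_eq_smul [Fact p.Prime] {B : Set (IrrCharacter G)} (hl : blockRank p B = 1)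
    {χ ψ : IrrCharacter G} (hχ : χ ∈ B) (hψ : ψ ∈ B) (h1 : (χ : G → ℂ) 1 ≠ 0) :
    ∃ c : ℂ, c * (χ : G → ℂ) 1 = (ψ : G → ℂ) 1 ∧
      c • pRegularPart p (χ : G → ℂ) = pRegularPart p (ψ : G → ℂ) := by
  rw [blockRank_eq_finrank] at hl
  let v : regSpan p B := ⟨pRegularPart p (χ : G → ℂ), pRegularPart_mem_regSpan hχ⟩
  let w : regSpan p B := ⟨pRegularPart p (ψ : G → ℂ), pRegularPart_mem_regSpan hψ⟩
  have hv : v ≠ 0 := by
    intro h
    have h2 := congrArg (fun f : regSpan p B => (f : G → ℂ) 1) h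
    simp only [v, pRegularPart_one] at h2
    exact h1 h2
  obtain ⟨c, hc⟩ := (finrank_eq_one_iff_of_nonzero' v hv).1 hl w
  have hc' : c • pRegularPart p (χ : G → ℂ) = pRegularPart p (ψ : G → ℂ) :=
    congrArg Subtype.val hc
  refine ⟨c, ?_, hc'⟩
  have h3 := congrFun hc' 1
  rw [Pi.smul_apply, pRegularPart_one, pRegularPart_one, smul_eq_mul] at h3
  exact h3

theorem cross [Fact p.Prime] {B : Set (IrrCharacter G)} (hl : blockRank p B = 1)
    {χ ψ : IrrCharacter G} (hχ : χ ∈ B) (hψ : ψ ∈ B) (θ : IrrCharacter G) :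
    (ψ : G → ℂ) 1 * classInner (pRegularPart p (χ : G → ℂ)) (θ : G → ℂ) =
      (χ : G → ℂ) 1 * classInner (pRegularPart p (ψ : G → ℂ)) (θ : G → ℂ) := by
  have h1 : (χ : G → ℂ) 1 ≠ 0 := Characters.Core.isIrr_apply_one_ne_zero χ.2
  obtain ⟨c, hc1, hc2⟩ := smul_eq_smul hl hχ hψ h1
  rw [← hc2, Characters.Core.classInner_smul_left, ← hc1]
  ring

theorem form_eq [Fact p.Prime] (hM : IsPModular p M) {B : Set (IrrCharacter G)}
    (hB : IsPBlock M B) (hl : blockRank p B = 1) [Fintype (IrrCharacter G)]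
    [DecidablePred (· ∈ B)] {χ ψ : IrrCharacter G} (hχ : χ ∈ B) (hψ : ψ ∈ B) :
    classInner (pRegularPart p (χ : G → ℂ)) (ψ : G → ℂ) *
      ∑ θ : IrrCharacter G with θ ∈ B, ((θ : G → ℂ) 1) ^ 2 =
      (χ : G → ℂ) 1 * (ψ : G → ℂ) 1 := by
  have hsum := blockRank_eq_sum hM hB
  rw [hl, Nat.cast_one] at hsum
  have hne : ∀ θ : IrrCharacter G, (θ : G → ℂ) 1 ≠ 0 := fun θ =>
    Characters.Core.isIrr_apply_one_ne_zero θ.2
  have h1 : ∀ θ ∈ B, classInner (pRegularPart p (χ : G → ℂ)) (ψ : G → ℂ) *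
      ((θ : G → ℂ) 1) ^ 2 = (χ : G → ℂ) 1 * (ψ : G → ℂ) 1 *
        classInner (pRegularPart p (θ : G → ℂ)) (θ : G → ℂ) := by
    intro θ hθ
    have e1 := cross hl hχ hθ ψ
    have e2 := cross hl hψ hθ θ
    rw [form_symm θ ψ] at e1
    calc classInner (pRegularPart p (χ : G → ℂ)) (ψ : G → ℂ) * ((θ : G → ℂ) 1) ^ 2
        = ((θ : G → ℂ) 1 * classInner (pRegularPart p (χ : G → ℂ)) (ψ : G → ℂ)) *
          (θ : G → ℂ) 1 := by ring
      _ = (χ : G → ℂ) 1 * ((θ : G → ℂ) 1 *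
          classInner (pRegularPart p (ψ : G → ℂ)) (θ : G → ℂ)) := by rw [e1]; ring
      _ = _ := by rw [e2]; ring
  rw [Finset.mul_sum]
  have h2 : ∀ θ ∈ (Finset.univ.filter (· ∈ B) : Finset (IrrCharacter G)),
      classInner (pRegularPart p (χ : G → ℂ)) (ψ : G → ℂ) *
      ((θ : G → ℂ) 1) ^ 2 = (χ : G → ℂ) 1 * (ψ : G → ℂ) 1 *
        classInner (pRegularPart p (θ : G → ℂ)) (θ : G → ℂ) := by
    intro θ hθ
    exact h1 θ (by simpa using hθ)
  rw [Finset.sum_congr rfl h2, ← Finset.mul_sum, ← hsum, mul_one]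

theorem exists_degrees [Fact p.Prime] (hM : IsPModular p M) {B : Set (IrrCharacter G)}
    (hB : IsPBlock M B) (hl : blockRank p B = 1) [Fintype (IrrCharacter G)]
    [DecidablePred (· ∈ B)] :
    ∃ (c : ℕ) (a : IrrCharacter G → ℕ), 0 < c ∧
      (∀ χ ∈ B, charDegree (χ : G → ℂ) = c * a χ) ∧ (∀ χ ∈ B, 0 < a χ) ∧
      (Finset.univ.filter (· ∈ B) : Finset (IrrCharacter G)).gcd a = 1 ∧
      ∑ χ : IrrCharacter G with χ ∈ B, a χ ^ 2 = p ^ blockDefect p B ∧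
      (∀ χ ∈ B, ∀ ψ ∈ B, ((p ^ blockDefect p B : ℕ) : ℂ) *
        classInner (pRegularPart p (χ : G → ℂ)) (ψ : G → ℂ) = a χ * a ψ) ∧
      ∀ χ ∈ B, (a χ).factorization p = blockHeight p B (χ : G → ℂ) := by
  classical
  have hp : p.Prime := Fact.out
  have hP : M.IsPrime := hM.2.1.isPrime
  obtain ⟨χ₀, hχ₀, h0⟩ := exists_height_zero (p := p) hB
  have hne : (Finset.univ.filter (· ∈ B) : Finset (IrrCharacter G)).Nonempty :=
    ⟨χ₀, by simpa using hχ₀⟩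
  obtain ⟨a, ha, hgcd⟩ := Finset.extract_gcd (fun χ : IrrCharacter G => charDegree (χ : G → ℂ)) hne
  set c := (Finset.univ.filter (· ∈ B) : Finset (IrrCharacter G)).gcd
    (fun χ : IrrCharacter G => charDegree (χ : G → ℂ)) with hc
  have ha' : ∀ χ ∈ B, charDegree (χ : G → ℂ) = c * a χ := fun χ hχ => ha χ (by simpa using hχ)
  have hpos : ∀ χ ∈ B, 0 < c * a χ := fun χ hχ => by
    rw [← ha' χ hχ]
    exact Blocks.Basic.charDegree_pos χ.2
  have hc0 : 0 < c := Nat.pos_of_mul_pos_right (hpos χ₀ hχ₀)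
  have hapos : ∀ χ ∈ B, 0 < a χ := fun χ hχ => Nat.pos_of_mul_pos_left (hpos χ hχ)
  set N := ∑ χ : IrrCharacter G with χ ∈ B, a χ ^ 2 with hN
  have hcc : (c : ℂ) ≠ 0 := by exact_mod_cast hc0.ne'
  -- the form
  have hF : ∀ χ ∈ B, ∀ ψ ∈ B, classInner (pRegularPart p (χ : G → ℂ)) (ψ : G → ℂ) * N =
      a χ * a ψ := by
    intro χ hχ ψ hψ
    have h1 := form_eq hM hB hl hχ hψ
    have h2 : ∑ θ : IrrCharacter G with θ ∈ B, ((θ : G → ℂ) 1) ^ 2 = (c : ℂ) ^ 2 * N := by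
      rw [hN]
      push_cast
      rw [Finset.mul_sum]
      refine Finset.sum_congr rfl fun θ hθ => ?_
      rw [Blocks.Basic.irr_one_eq_charDegree θ.2, ha' θ (by simpa using hθ)]
      push_cast
      ring
    rw [h2, Blocks.Basic.irr_one_eq_charDegree χ.2, Blocks.Basic.irr_one_eq_charDegree ψ.2,
      ha' χ hχ, ha' ψ hψ] at h1
    push_cast at h1
    have h3 : (c : ℂ) ^ 2 * (classInner (pRegularPart p (χ : G → ℂ)) (ψ : G → ℂ) * N) =
        (c : ℂ) ^ 2 * (a χ * a ψ) := by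
      linear_combination h1
    exact mul_left_cancel₀ (pow_ne_zero 2 hcc) h3
  -- divisibility
  have hdiv : ∀ χ ∈ B, ∀ ψ ∈ B, ∃ n : ℤ, ((p ^ blockDefect p B : ℕ) : ℂ) *
      classInner (pRegularPart p (χ : G → ℂ)) (ψ : G → ℂ) = n ∧
      (n * N : ℤ) = (p ^ blockDefect p B : ℕ) * (a χ * a ψ : ℕ) := by
    intro χ hχ ψ hψ
    obtain ⟨n, hn⟩ := exists_int_pow_defect hM hχ ψ
    refine ⟨n, hn, ?_⟩
    have h1 := hF χ hχ ψ hψ
    have h2 : ((n * N : ℤ) : ℂ) = (((p ^ blockDefect p B : ℕ) * (a χ * a ψ : ℕ) : ℤ) : ℂ) := by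
      push_cast
      rw [← hn, ← h1]
      push_cast
      ring
    exact_mod_cast h2
  have hdvd1 : ∀ χ ∈ B, ∀ ψ ∈ B, N ∣ p ^ blockDefect p B * a χ * a ψ := by
    intro χ hχ ψ hψ
    obtain ⟨n, -, hn⟩ := hdiv χ hχ ψ hψ
    have : (N : ℤ) ∣ ((p ^ blockDefect p B * a χ * a ψ : ℕ) : ℤ) :=
      ⟨n, by
        push_cast
        push_cast at hn
        linear_combination -hn⟩
    exact_mod_cast this
  have hdvd2 : ∀ χ ∈ B, N ∣ p ^ blockDefect p B * a χ := by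
    intro χ hχ
    have h1 : N ∣ (Finset.univ.filter (· ∈ B) : Finset (IrrCharacter G)).gcd
        (fun ψ => p ^ blockDefect p B * a χ * a ψ) :=
      Finset.dvd_gcd fun ψ hψ => hdvd1 χ hχ ψ (by simpa using hψ)
    rw [Finset.gcd_mul_left, hgcd, mul_one] at h1
    simpa using h1
  have hdvd3 : N ∣ p ^ blockDefect p B := by
    have h1 : N ∣ (Finset.univ.filter (· ∈ B) : Finset (IrrCharacter G)).gcd
        (fun ψ => p ^ blockDefect p B * a ψ) :=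
      Finset.dvd_gcd fun ψ hψ => hdvd2 ψ (by simpa using hψ)
    rw [Finset.gcd_mul_left, hgcd, mul_one] at h1
    simpa using h1
  obtain ⟨e, he, hNe⟩ := (Nat.dvd_prime_pow hp).1 hdvd3
  have hN0 : N ≠ 0 := by rw [hNe]; exact pow_ne_zero _ hp.ne_zero
  have hed : e = blockDefect p B := by
    by_contra hne
    have hlt : e < blockDefect p B := lt_of_le_of_ne he hne
    obtain ⟨n, hn, hn1, hn2⟩ := exists_int_height hM hB hχ₀ h0 hχ₀
    obtain ⟨n', hn', hn''⟩ := hdiv χ₀ hχ₀ χ₀ hχ₀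
    have hnn : n = n' := by
      have : (n : ℂ) = n' := by rw [← hn, ← hn']
      exact_mod_cast this
    subst hnn
    apply hn2
    rw [h0, zero_add, pow_one]
    obtain ⟨k, hk⟩ := Nat.exists_eq_add_of_lt hlt
    refine ⟨(p : ℤ) ^ k * (a χ₀ * a χ₀), ?_⟩
    have h4 : (p : ℤ) ^ e ≠ 0 := pow_ne_zero _ (by exact_mod_cast hp.ne_zero)
    apply mul_left_cancel₀ h4
    rw [hNe, hk] at hn''
    push_cast at hn''
    rw [mul_comm, hn'']
    ring
  have hNd : N = p ^ blockDefect p B := by rw [hNe, hed]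
  have hform : ∀ χ ∈ B, ∀ ψ ∈ B, ((p ^ blockDefect p B : ℕ) : ℂ) *
      classInner (pRegularPart p (χ : G → ℂ)) (ψ : G → ℂ) = a χ * a ψ := by
    intro χ hχ ψ hψ
    rw [← hF χ hχ ψ hψ, hNd, mul_comm]
  refine ⟨c, a, hc0, ha', hapos, hgcd, hNd, hform, ?_⟩
  -- heights
  have hn : ∀ ψ ∈ B, p ^ blockHeight p B (ψ : G → ℂ) ∣ a χ₀ * a ψ ∧
      ¬ p ^ (blockHeight p B (ψ : G → ℂ) + 1) ∣ a χ₀ * a ψ := by
    intro ψ hψ
    obtain ⟨n, hn, hn1, hn2⟩ := exists_int_height hM hB hχ₀ h0 hψ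
    have h1 := hform χ₀ hχ₀ ψ hψ
    have h2 : n = ((a χ₀ * a ψ : ℕ) : ℤ) := by
      have : (n : ℂ) = ((a χ₀ * a ψ : ℕ) : ℂ) := by rw [← hn, h1]; push_cast; ring
      exact_mod_cast this
    rw [h2] at hn1 hn2
    exact ⟨by exact_mod_cast hn1, fun h => hn2 (by exact_mod_cast h)⟩
  have hp0 : ¬ p ∣ a χ₀ := by
    intro h
    apply (hn χ₀ hχ₀).2
    rw [h0, zero_add, pow_one]
    exact h.mul_right _
  intro χ hχ
  have h1 := hn χ hχ
  have hcop : ∀ k : ℕ, Nat.Coprime (p ^ k) (a χ₀) := fun k =>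
    Nat.Coprime.pow_left _ ((Nat.Prime.coprime_iff_not_dvd hp).2 hp0)
  have h2 : p ^ blockHeight p B (χ : G → ℂ) ∣ a χ := (hcop _).dvd_of_dvd_mul_left h1.1
  have h3 : ¬ p ^ (blockHeight p B (χ : G → ℂ) + 1) ∣ a χ := fun h => h1.2 (h.mul_left _)
  have h4 := (hp.pow_dvd_iff_le_factorization (hapos χ hχ).ne').1 h2
  have h5 : ¬ blockHeight p B (χ : G → ℂ) + 1 ≤ (a χ).factorization p := fun h =>
    h3 ((hp.pow_dvd_iff_le_factorization (hapos χ hχ).ne').2 h)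
  omega

end Cfsg.Agent.H632.Numbers
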